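import Groth.Agent.AlgSpBasic.StrataAbsolute
import Groth.Agent.AlgSpCartier.SchImageMore
import Groth.Agent.AlgSp2.Approx.AffineApprox
import Groth.Agent.SpLimit.OpenDescent
import Groth.Agent.AlgSp3.RedInduced

/-!
# Quasi-compact opens as complements of finitely presented closed subspaces
-/

set_option autoImplicit false
set_option backward.isDefEq.respectTransparency.types false
universe u

open CategoryTheory CategoryTheory.Limits AlgebraicGeometry Opposite AlgSp

namespace Groth.AlgSp2.OpenComplement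

open Groth.AlgSpBasic Groth.AlgSpBasic.FiniteStrata Groth.AlgSp3 Groth.AlgSp2

noncomputable section

variable {S S' : Scheme.{u}} (γ : S ⟶ S')

/-- Membership in the inverse image of a represented subspace, tested in the model. -/
theorem mem_range_iff {P : MorphismProperty Scheme.{u}} {X Z : Sp S} {X₀ Z₀ : Sp S'}
    {a : (shriek γ).obj X ⟶ X₀} {i₀ : Z₀ ⟶ X₀} {i : Z ⟶ X} (hi : RepWith P i)
    {G : (shriek γ).obj Z ⟶ Z₀} (sq : IsPullback G ((shriek γ).map i) i₀ a) {T : Over S}
    (z : (yon S).obj T ⟶ X) (p : ↥T.left) :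
    Points.ofPt z p ∈ Set.range (Points.map i) ↔
      Points.ofPt ((shriekYonIso γ T).inv ≫ (shriek γ).map z ≫ a)
        (p : ↥((Over.map γ).obj T).left) ∈ Set.range (Points.map i₀) := by
  obtain ⟨W, snd, fst, sqW⟩ := hi.rep z
  have h1 : IsPullback ((shriekYonIso γ W).inv ≫ (shriek γ).map fst)
      ((yon S').map ((Over.map γ).map snd)) ((shriek γ).map i)
      ((shriekYonIso γ T).inv ≫ (shriek γ).map z) :=
    (isPullback_shriek γ sqW).of_iso (shriekYonIso γ W) (Iso.refl _) (shriekYonIso γ T) (Iso.refl _)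
      (by simp) ((shriekYonIso_naturality γ snd).symm) (by simp) (by simp)
  have h2 := h1.paste_horiz sq
  rw [Category.assoc] at h2
  constructor
  · rintro ⟨w, hw⟩
    obtain ⟨v, -, hv⟩ := (map_eq_ofPt_iff sqW w p).1 hw
    exact ⟨_, (map_eq_ofPt_iff h2 _ _).2 ⟨(v : ↥((Over.map γ).obj W).left), rfl, hv⟩⟩
  · rintro ⟨w, hw⟩
    obtain ⟨v, -, hv⟩ := (map_eq_ofPt_iff h2 w p).1 hw
    exact ⟨_, (map_eq_ofPt_iff sqW _ _).2 ⟨(v : ↥W.left), rfl, hv⟩⟩

theorem isQuasiCompactSp_shriek {X : Sp S} (hqc : IsQuasiCompactSp X) :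
    IsQuasiCompactSp ((shriek γ).obj X) := by
  obtain ⟨U, a, hae, has, hU⟩ := hqc
  exact ⟨(Over.map γ).obj U, (shriekYonIso γ U).inv ≫ (shriek γ).map a,
    repWith_comp (repWith_isIso _) (repWith_shriek_map γ hae),
    repWith_comp (repWith_isIso _) (repWith_shriek_map γ has), hU⟩

/-- A space locally of finite presentation over a locally Noetherian space is locally Noetherian. -/
theorem isLocNoethSp_of_lfp {X Y : Sp S} (hX : IsAlgSpace X) (hY : IsAlgSpace Y) {f : X ⟶ Y}
    (hf : LocP @LocallyOfFinitePresentation f) (hN : IsLocNoethSp Y) : IsLocNoethSp X := by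
  obtain ⟨U, q, hq, hqs, hU⟩ := hN
  obtain ⟨V, p, α, hp, hps, hc⟩ := exists_chart_over hX hY.diag f q hq hqs
  have : LocallyOfFinitePresentation α.left := hf p q α hp hq hc
  exact ⟨V, p, hp, hps, LocallyOfFiniteType.isLocallyNoetherian α.left⟩

/-- A closed subspace of a locally Noetherian space is finitely presented. -/
theorem repWith_lfp_of_closed {X Z : Sp S} (hN : IsLocNoethSp X) {i : Z ⟶ X}
    (hi : RepWith @IsClosedImmersion i) : RepWith @LocallyOfFinitePresentation i := by
  obtain ⟨U, a, ha, has, hU⟩ := hN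
  obtain ⟨W, snd, fst, sq⟩ := hi.rep a
  have : IsClosedImmersion snd.left := hi.property a fst snd sq
  have : IsLocallyNoetherian U.left := hU
  have : LocallyOfFinitePresentation snd.left :=
    LocallyOfFinitePresentation.iff_locallyOfFiniteType.2 inferInstance
  have hl := isLocallySurjective_of_etale a ha has
  exact repWith_of_isLocallySurjective i hi.rep a fst _ sq ((repWith_yon_map_iff _ snd).2 this)

theorem ker_fg_of_closed {W U : Scheme.{u}} [IsAffine U] (f : W ⟶ U) [IsClosedImmersion f]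
    [LocallyOfFinitePresentation f] : (RingHom.ker f.appTop.hom).FG := by
  have : IsAffine W := isAffine_of_isAffineHom f
  have hs := (IsClosedImmersion.isAffine_surjective_of_isAffine f).2
  have hfp : f.appTop.hom.FinitePresentation :=
    (HasRingHomProperty.iff_of_isAffine (P := @LocallyOfFinitePresentation)).1 inferInstance
  algebraize [f.appTop.hom]
  exact Algebra.FinitePresentation.ker_fG_of_surjective (Algebra.ofId Γ(U, ⊤) Γ(W, ⊤)) hs

theorem range_eq_zeroLocus {W U : Scheme.{u}} [IsAffine U] (f : W ⟶ U) [IsClosedImmersion f] :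
    Set.range f = U.zeroLocus (U := ⊤) (RingHom.ker f.appTop.hom : Set Γ(U, ⊤)) := by
  have h := f.ker.coe_support_inter ⟨⊤, isAffineOpen_top U⟩
  rw [Scheme.Hom.support_ker, f.isClosedEmbedding.isClosed_range.closure_eq,
    Scheme.Hom.ker_apply] at h
  simp only [Set.inter_univ, TopologicalSpace.Opens.coe_top] at h
  exact h

/-- A quasi-compact open of a qcqs space is the complement of a finitely presented closed subspace. -/
theorem exists_closed_compl [QuasiSeparatedSpace ↥S] {X U : Sp S} (hX : IsAlgSpace X)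
    (hqc : IsQuasiCompactSp X) (hqs : IsQuasiSeparatedSp X) (j : U ⟶ X)
    (hj : RepWith @IsOpenImmersion j) (hU : IsQuasiCompactSp U) :
    ∃ (Z : Sp S) (i : Z ⟶ X), IsAlgSpace Z ∧ RepWith @IsClosedImmersion i ∧
      RepWith @LocallyOfFinitePresentation i ∧
      Set.range (Points.map i) = (Set.range (Points.map j))ᶜ := by
  let S' : Scheme.{u} := Spec (CommRingCat.of (ULift.{u} ℤ))
  let γ : S ⟶ S' := specULiftZIsTerminal.from S
  have : IsNoetherianRing (ULift.{u} ℤ) := isNoetherianRing_of_ringEquiv ℤ ULift.ringEquiv.symm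
  obtain ⟨X₀, a, hX₀, hc₀, hs₀, hN₀, ha⟩ := exists_noetherian_model γ hX hqc hqs
  obtain ⟨J, hJ, hJ', hJne, D, t, c, hc, e, hD, hDa, ht, hte⟩ :=
    Approx.exists_limit_affine hX₀ hc₀ hs₀ ha
  have hDqc : ∀ k, IsQuasiCompactSp (D.obj k) := fun k =>
    Approx.isQuasiCompactSp_of_affineMor (hD k) (ht k).1 hX₀ hc₀
  have hDqs : ∀ k, IsQuasiSeparatedSp (D.obj k) := fun k =>
    Approx.isQuasiSeparatedSp_of_affineMor (hD k) (ht k).1 hs₀
  obtain ⟨k, Uk, jk, q, hjk, -, sqU⟩ := Groth.SpLimit.exists_openSub_stage hD hDa hc hDqc hDqs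
    ((shriek γ).map j ≫ e.inv) (repWith_comp (repWith_shriek_map γ hj) (repWith_isIso _))
    (isQuasiCompactSp_shriek γ hU)
  let ak : (shriek γ).obj X ⟶ D.obj k := e.inv ≫ c.π.app k
  have sqU' : IsPullback q ((shriek γ).map j) jk ak :=
    sqU.flip.of_iso (Iso.refl _) (Iso.refl _) e (Iso.refl _) (by simp) (by simp) (by simp) (by simp [ak])
  have hNk : IsLocNoethSp (D.obj k) := isLocNoethSp_of_lfp (hD k) hX₀ (ht k).2.1 hN₀
  obtain ⟨Zk, ik, hZk, hik, hikr, -⟩ := exists_isRedInduced (hD k)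
    (C := (Set.range (Points.map jk))ᶜ)
    (isOpenMap_map_of_repWith (fun _ _ g (_ : IsOpenImmersion g) => g.isOpenEmbedding.isOpenMap) hjk
      |>.isOpen_range.isClosed_compl)
  obtain ⟨Z, i, G, hZ, sqZ, hi⟩ := exists_pullback_closed (a := ak) hX hik
  have hif : RepWith @LocallyOfFinitePresentation i :=
    repWith_of_shriek_map γ (repWith_of_isPullback sqZ (repWith_lfp_of_closed hNk hik))
  refine ⟨Z, i, hZ, hi, hif, Set.ext fun x => ?_⟩
  obtain ⟨T, z, p, rfl⟩ := exists_ofPt x
  rw [Set.mem_compl_iff, mem_range_iff γ hi sqZ z p, mem_range_iff γ hj sqU' z p, hikr]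
  rfl

/-- An open subspace is quasi-compact exactly when it is the complement of a finite type ideal. -/
theorem isQuasiCompactSp_open_iff [QuasiSeparatedSpace ↥S] (X : AlgSp.Space S)
    (hqc : IsQuasiCompactSp X.obj) (hqs : IsQuasiSeparatedSp X.obj)
    (U : AlgSp.Space S) (j : U ⟶ X) (hj : RepWith @IsOpenImmersion j.hom) :
    IsQuasiCompactSp U.obj ↔
      ∃ (I : IdealEt X.obj), I.IsQCoh ∧
        (∀ (E : EtOver X.obj) (hE : IsAffine E.obj.left.left), (I.ideal E hE).FG) ∧
        ∃ (Z : AlgSp.Space S) (i : Z ⟶ X), IsCutOutBy I i.hom ∧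
          Set.range (Points.map i.hom) = (Set.range (Points.map j.hom))ᶜ := by
  constructor
  · intro hU
    obtain ⟨Z, i, hZ, hi, hif, hr⟩ := exists_closed_compl X.property hqc hqs j.hom hj hU
    have hqci : IsQuasiCompactMor i := isQuasiCompactMor_of_repWith hZ X.property
      (repWith_mono (fun _ _ g (_ : IsClosedImmersion g) => (inferInstance : QuasiCompact g)) hi)
    refine ⟨idealOfRep hi.1, Groth.AlgSpCartier.isQCoh_idealOfRep hi.1 hqci, fun E hE => ?_,
      ⟨Z, hZ⟩, ⟨i⟩, ⟨hi, rfl⟩, hr⟩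
    have : IsClosedImmersion (EtOver.bcπ hi.1 E).left :=
      hi.property _ _ _ (EtOver.isPullback_bcObj hi.1 E)
    have : LocallyOfFinitePresentation (EtOver.bcπ hi.1 E).left :=
      hif.property _ _ _ (EtOver.isPullback_bcObj hi.1 E)
    exact ker_fg_of_closed (EtOver.bcπ hi.1 E).left
  · rintro ⟨I, -, hfg, Z, i, ⟨hi, rfl⟩, hr⟩
    obtain ⟨V, v, hV, hve, hvs⟩ := exists_affine_chart X.property hqc
    let E : EtOver X.obj := EtOver.mk v hve
    obtain ⟨W, snd, fst, sq⟩ := hj.rep v
    have : IsOpenImmersion snd.left := hj.property v fst snd sq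
    have : IsClosedImmersion (EtOver.bcπ hi.1 E).left :=
      hi.property _ _ _ (EtOver.isPullback_bcObj hi.1 E)
    have : IsAffine E.obj.left.left := hV
    have hZr : Set.range (EtOver.bcπ hi.1 E).left = (Set.range snd.left)ᶜ := by
      ext x
      have h1 : Points.ofPt v x ∈ Set.range (Points.map i.hom) ↔ x ∈ Set.range (EtOver.bcπ hi.1 E).left :=
        ⟨fun ⟨y, hy⟩ => let ⟨w, _, hw⟩ := (map_eq_ofPt_iff (EtOver.isPullback_bcObj hi.1 E) y x).1 hy
          ⟨w, hw⟩,
        fun ⟨w, hw⟩ => ⟨_, (map_eq_ofPt_iff (EtOver.isPullback_bcObj hi.1 E) _ x).2 ⟨w, rfl, hw⟩⟩⟩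
      have h2 : Points.ofPt v x ∈ Set.range (Points.map j.hom) ↔ x ∈ Set.range snd.left :=
        ⟨fun ⟨y, hy⟩ => let ⟨w, _, hw⟩ := (map_eq_ofPt_iff sq y x).1 hy
          ⟨w, hw⟩,
        fun ⟨w, hw⟩ => ⟨_, (map_eq_ofPt_iff sq _ x).2 ⟨w, rfl, hw⟩⟩⟩
      rw [← h1, Set.mem_compl_iff, ← h2, hr]
      rfl
    obtain ⟨s, hs⟩ := hfg E hV
    have hs' : Ideal.span (s : Set Γ(E.obj.left.left, ⊤)) = RingHom.ker (EtOver.bcπ hi.1 E).left.appTop.hom := hs
    have hc : Set.range snd.left = ⋃ f ∈ s, (V.left.basicOpen f : Set V.left) := by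
      rw [← compl_compl (Set.range snd.left), ← hZr, range_eq_zeroLocus]
      show (E.obj.left.left.zeroLocus (U := ⊤) (RingHom.ker (EtOver.bcπ hi.1 E).left.appTop.hom : Set Γ(E.obj.left.left, ⊤)))ᶜ = _
      rw [← hs', Scheme.zeroLocus_span]
      ext x
      simp [Scheme.mem_zeroLocus_iff]
      rfl
    have hcomp : CompactSpace W.left := by
      refine isCompact_univ_iff.1 ((snd.left.isOpenEmbedding.toIsInducing.isCompact_iff).2 ?_)
      rw [Set.image_univ, hc]
      exact s.finite_toSet.isCompact_biUnion fun f _ =>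
        ((isAffineOpen_top V.left).basicOpen f).isCompact
    exact ⟨W, fst, repWith_of_isPullback sq.flip hve, repWith_of_isPullback sq.flip hvs, hcomp⟩

end

end Groth.AlgSp2.OpenComplement
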